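import Mathlib

set_option linter.style.haveILetI false
set_option linter.unusedVariables false
set_option linter.unusedSectionVars false
set_option autoImplicit false
set_option backward.isDefEq.respectTransparency.types false
set_option synthInstance.maxHeartbeats 400000
set_option maxHeartbeats 1600000

universe u

/-! helper7: a linear map from a projective module to a flat module which is injective modulo every
maximal ideal is universally injective; content ideals in projective modules. -/

open TensorProduct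

namespace Groth.Agent.Helper7.ProjFlat

variable {A : Type u} [CommRing A]

/-- a nonzero functional with values in a residue field at a maximal ideal, on a nonzero finite
module -/
theorem exists_maximal_functional {Q' : Type u} [AddCommGroup Q'] [Module A Q'] [Module.Finite A Q']
    [Nontrivial Q'] :
    ∃ (m : Ideal A) (_ : m.IsMaximal) (θ : Q' →ₗ[A] A ⧸ m), θ ≠ 0 := by
  classical
  obtain ⟨m, hm, hne⟩ : ∃ m : Ideal A, m.IsMaximal ∧ m • (⊤ : Submodule A Q') ≠ ⊤ := by
    have hann : (Module.annihilator A Q') ≠ ⊤ := by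
      intro h
      have h1 : (1 : A) ∈ Module.annihilator A Q' := h ▸ Submodule.mem_top
      rw [Module.mem_annihilator] at h1
      obtain ⟨q, hq⟩ := exists_ne (0 : Q')
      exact hq (by simpa using h1 q)
    obtain ⟨m, hm, hle⟩ := Ideal.exists_le_maximal _ hann
    refine ⟨m, hm, fun htop => ?_⟩
    obtain ⟨r, hr1, hr0⟩ := Submodule.exists_sub_one_mem_and_smul_eq_zero_of_fg_of_le_smul m
      (⊤ : Submodule A Q') Module.Finite.fg_top (by rw [htop])
    have hrann : r ∈ Module.annihilator A Q' :=
      Module.mem_annihilator.mpr (fun q => hr0 q Submodule.mem_top)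
    have h1 : (1 : A) ∈ m := by
      have h2 := m.sub_mem (hle hrann) hr1
      simpa using h2
    exact hm.ne_top ((Ideal.eq_top_iff_one m).mpr h1)
  haveI := hm
  letI : Field (A ⧸ m) := Ideal.Quotient.field m
  let e := TensorProduct.quotTensorEquivQuotSMul Q' m
  haveI : Nontrivial (Q' ⧸ (m • (⊤ : Submodule A Q'))) :=
    Submodule.Quotient.nontrivial_iff.mpr hne
  haveI : Nontrivial ((A ⧸ m) ⊗[A] Q') := e.toEquiv.nontrivial
  obtain ⟨v, hv⟩ := exists_ne (0 : (A ⧸ m) ⊗[A] Q')
  obtain ⟨φ, hφ⟩ := Module.Projective.exists_dual_ne_zero (A ⧸ m) hv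
  refine ⟨m, hm, (φ.restrictScalars A) ∘ₗ (TensorProduct.mk A (A ⧸ m) Q' 1), ?_⟩
  intro h0
  apply hφ
  have hzero : ∀ w : (A ⧸ m) ⊗[A] Q', φ w = 0 := by
    intro w
    induction w using TensorProduct.induction_on with
    | zero => simp
    | tmul a q =>
      have e1 : a ⊗ₜ[A] q = a • ((1 : A ⧸ m) ⊗ₜ[A] q) := by
        rw [TensorProduct.smul_tmul', smul_eq_mul, mul_one]
      have e2 : φ ((1 : A ⧸ m) ⊗ₜ[A] q) = 0 := by
        have h2 := LinearMap.congr_fun h0 q
        simpa using h2
      rw [e1, map_smul, e2, smul_zero]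
    | add a b ha hb => rw [map_add, ha, hb, add_zero]
  exact hzero v

/-- naturality of `finsuppScalarRight` in the module -/
theorem rTensor_finsuppScalarRight_symm {Q₁ Q₂ : Type u} [AddCommGroup Q₁] [Module A Q₁]
    [AddCommGroup Q₂] [Module A Q₂] (ι : Type u) [DecidableEq ι] (f : Q₁ →ₗ[A] Q₂) (ξ : ι →₀ Q₁) :
    (f.rTensor (ι →₀ A)) ((TensorProduct.finsuppScalarRight A A Q₁ ι).symm ξ) =
      (TensorProduct.finsuppScalarRight A A Q₂ ι).symm (Finsupp.mapRange.linearMap f ξ) := by
  induction ξ using Finsupp.induction_linear with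
  | zero => simp
  | add a b ha hb => simp only [map_add, ha, hb]
  | single i q =>
    rw [TensorProduct.finsuppScalarRight_symm_apply_single, LinearMap.rTensor_tmul,
      Finsupp.mapRange.linearMap_apply, Finsupp.mapRange_single,
      TensorProduct.finsuppScalarRight_symm_apply_single]

/-- a linear map from a projective module to a flat module which is injective modulo every maximal
ideal is universally injective -/
theorem lTensor_injective_of_projective {P M : Type u} [AddCommGroup P] [Module A P]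
    [Module.Projective A P] [AddCommGroup M] [Module A M] [Module.Flat A M] (w : P →ₗ[A] M)
    (hw : ∀ (m : Ideal A) [m.IsMaximal], Function.Injective (w.lTensor (A ⧸ m)))
    (Q : Type u) [AddCommGroup Q] [Module A Q] : Function.Injective (w.lTensor Q) := by
  classical
  obtain ⟨s, hs⟩ := (Module.projective_def'.mp ‹Module.Projective A P›)
  rw [injective_iff_map_eq_zero]
  intro x hx
  by_contra hx0
  let eQ := TensorProduct.finsuppScalarRight A A Q P
  have hπs : (Finsupp.linearCombination A (id : P → P)).lTensor Q (s.lTensor Q x) = x := by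
    rw [← LinearMap.comp_apply, ← LinearMap.lTensor_comp, hs, LinearMap.lTensor_id,
      LinearMap.id_apply]
  have hz0 : s.lTensor Q x ≠ 0 := fun h => hx0 (by rw [← hπs, h, map_zero])
  have hζ0 : eQ (s.lTensor Q x) ≠ 0 := fun h => hz0 (eQ.map_eq_zero_iff.mp h)
  obtain ⟨ζ, hζ⟩ : ∃ ζ : P →₀ Q, ζ = eQ (s.lTensor Q x) := ⟨_, rfl⟩
  rw [← hζ] at hζ0
  have hzζ : s.lTensor Q x = eQ.symm ζ := by rw [hζ, LinearEquiv.symm_apply_apply]
  obtain ⟨Q', hQ'⟩ : ∃ Q' : Submodule A Q, Q' = Submodule.span A (Set.range ζ) := ⟨_, rfl⟩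
  have hfg : Q'.FG := by
    rw [hQ']
    exact Submodule.fg_span ζ.finite_range
  haveI : Module.Finite A Q' := Module.Finite.iff_fg.mpr hfg
  have hmemQ' : ∀ j, ζ j ∈ Q' := fun j => by
    rw [hQ']
    exact Submodule.subset_span ⟨j, rfl⟩
  let ζ' : P →₀ Q' := Finsupp.onFinset ζ.support (fun j => ⟨ζ j, hmemQ' j⟩) (by
    intro j hj
    rw [Finsupp.mem_support_iff]
    intro h0
    apply hj
    exact Subtype.ext h0)
  have hζ' : Finsupp.mapRange.linearMap Q'.subtype ζ' = ζ := by
    ext j
    rfl
  let eQ' := TensorProduct.finsuppScalarRight A A Q' P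
  let z' : Q' ⊗[A] (P →₀ A) := eQ'.symm ζ'
  have hz' : (Q'.subtype.rTensor (P →₀ A)) z' = s.lTensor Q x := by
    rw [hzζ]
    show (Q'.subtype.rTensor (P →₀ A)) (eQ'.symm ζ') = _
    rw [rTensor_finsuppScalarRight_symm, hζ']
  let x' : Q' ⊗[A] P := (Finsupp.linearCombination A (id : P → P)).lTensor Q' z'
  have hF1 : (Q'.subtype.rTensor P) x' = x := by
    show (Q'.subtype.rTensor P) ((Finsupp.linearCombination A (id : P → P)).lTensor Q' z') = x
    rw [← LinearMap.comp_apply, LinearMap.rTensor_comp_lTensor, ← LinearMap.lTensor_comp_rTensor,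
      LinearMap.comp_apply, hz', hπs]
  have hF2 : (w.lTensor Q') x' = 0 := by
    apply Module.Flat.rTensor_preserves_injective_linearMap (M := M) Q'.subtype
      Q'.subtype_injective
    rw [map_zero, ← LinearMap.comp_apply, LinearMap.rTensor_comp_lTensor,
      ← LinearMap.lTensor_comp_rTensor, LinearMap.comp_apply, hF1, hx]
  have hF3 : (s.lTensor Q') x' = z' := by
    apply Module.Flat.rTensor_preserves_injective_linearMap (M := (P →₀ A)) Q'.subtype
      Q'.subtype_injective
    rw [← LinearMap.comp_apply, LinearMap.rTensor_comp_lTensor, ← LinearMap.lTensor_comp_rTensor,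
      LinearMap.comp_apply, hF1, hz']
  haveI : Nontrivial Q' := by
    obtain ⟨j, hj⟩ : ∃ j, ζ j ≠ 0 := by
      by_contra hall
      push Not at hall
      exact hζ0 (Finsupp.ext hall)
    exact ⟨⟨⟨ζ j, hmemQ' j⟩, 0, fun h => hj (congrArg Subtype.val h)⟩⟩
  obtain ⟨m, hm, θ, hθ⟩ := exists_maximal_functional (A := A) (Q' := Q')
  haveI := hm
  -- `θ` does not vanish on all the coordinates
  have hθζ : Finsupp.mapRange.linearMap θ ζ' ≠ 0 := by
    intro h0
    apply hθ
    have hker : Q' ≤ Submodule.map Q'.subtype (LinearMap.ker θ) := by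
      refine hQ'.le.trans (Submodule.span_le.mpr ?_)
      rintro _ ⟨j, rfl⟩
      refine ⟨⟨ζ j, hmemQ' j⟩, ?_, rfl⟩
      have h1 := DFunLike.congr_fun h0 j
      exact h1
    ext q
    obtain ⟨q', hq', hq'e⟩ := hker q.2
    have : q' = q := Subtype.ext hq'e
    rw [this] at hq'
    exact hq'
  have h1 : (θ.rTensor (P →₀ A)) z' ≠ 0 := by
    show (θ.rTensor (P →₀ A)) (eQ'.symm ζ') ≠ 0
    rw [rTensor_finsuppScalarRight_symm]
    intro h0
    exact hθζ ((LinearEquiv.map_eq_zero_iff _).mp h0)
  have h2 : (θ.rTensor P) x' ≠ 0 := by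
    intro h0
    apply h1
    rw [← hF3, ← LinearMap.comp_apply, LinearMap.rTensor_comp_lTensor,
      ← LinearMap.lTensor_comp_rTensor, LinearMap.comp_apply, h0, map_zero]
  apply h2
  apply hw m
  rw [map_zero, ← LinearMap.comp_apply, LinearMap.lTensor_comp_rTensor,
    ← LinearMap.rTensor_comp_lTensor, LinearMap.comp_apply, hF2, map_zero]

/-- the element `1 ⊗ y` of `(A ⧸ J) ⊗ Y` vanishes exactly when `y ∈ J • ⊤` -/
theorem one_tmul_eq_zero_iff {Y : Type u} [AddCommGroup Y] [Module A Y] (J : Ideal A) (y : Y) :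
    (1 : A ⧸ J) ⊗ₜ[A] y = 0 ↔ y ∈ J • (⊤ : Submodule A Y) := by
  rw [← (TensorProduct.quotTensorEquivQuotSMul Y J).map_eq_zero_iff]
  have h1 : (1 : A ⧸ J) = Ideal.Quotient.mk J 1 := rfl
  rw [h1, TensorProduct.quotTensorEquivQuotSMul_mk_tmul, one_smul, Submodule.Quotient.mk_eq_zero]

/-- a linear map sends `J • ⊤` into `J • ⊤` -/
theorem map_mem_smul_top {Y Y' : Type u} [AddCommGroup Y] [Module A Y] [AddCommGroup Y']
    [Module A Y'] (f : Y →ₗ[A] Y') (J : Ideal A) (y : Y) (hy : y ∈ J • (⊤ : Submodule A Y)) :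
    f y ∈ J • (⊤ : Submodule A Y') := by
  refine Submodule.smul_induction_on hy (fun a ha n _ => ?_) (fun a b ha hb => ?_)
  · rw [map_smul]
    exact Submodule.smul_mem_smul ha Submodule.mem_top
  · rw [map_add]
    exact add_mem ha hb

/-- content ideals in a projective module, through a universally injective map -/
theorem exists_content {P Y : Type u} [AddCommGroup P] [Module A P] [Module.Projective A P]
    [AddCommGroup Y] [Module A Y] (g : P →ₗ[A] Y)
    (hg : ∀ (Q : Type u) [AddCommGroup Q] [Module A Q], Function.Injective (g.lTensor Q)) (n : P) :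
    ∃ I : Ideal A, g n ∈ I • (⊤ : Submodule A Y) ∧
      ∀ J : Ideal A, g n ∈ J • (⊤ : Submodule A Y) → I ≤ J := by
  classical
  obtain ⟨s, hs⟩ := (Module.projective_def'.mp ‹Module.Projective A P›)
  refine ⟨Ideal.span (Set.range (s n)), ?_, ?_⟩
  · apply map_mem_smul_top g
    have h1 : Finsupp.linearCombination A (id : P → P) (s n) = n := LinearMap.congr_fun hs n
    have h2 : Finsupp.linearCombination A (id : P → P) (s n) ∈
        (Ideal.span (Set.range (s n))) • (⊤ : Submodule A P) := by
      rw [Finsupp.linearCombination_apply, Finsupp.sum]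
      exact Submodule.sum_mem _ (fun j _ =>
        Submodule.smul_mem_smul (Ideal.subset_span ⟨j, rfl⟩) Submodule.mem_top)
    rw [h1] at h2
    exact h2
  · intro J hJ
    have h1 : n ∈ J • (⊤ : Submodule A P) := by
      rw [← one_tmul_eq_zero_iff]
      apply hg (A ⧸ J)
      rw [map_zero, LinearMap.lTensor_tmul, one_tmul_eq_zero_iff]
      exact hJ
    have h2 : s n ∈ J • (⊤ : Submodule A (P →₀ A)) := map_mem_smul_top s J n h1
    have h3 : ∀ y ∈ J • (⊤ : Submodule A (P →₀ A)), ∀ j, y j ∈ J := by
      intro y hy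
      refine Submodule.smul_induction_on hy (fun a ha f _ j => ?_) (fun a b ha hb j => ?_)
      · rw [Finsupp.smul_apply, smul_eq_mul]
        exact J.mul_mem_right _ ha
      · rw [Finsupp.add_apply]
        exact J.add_mem (ha j) (hb j)
    refine Ideal.span_le.mpr ?_
    rintro _ ⟨j, rfl⟩
    exact h3 _ h2 j

end Groth.Agent.Helper7.ProjFlat
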